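import Cfsg.Agent.ReeF4.Count

/-!
# Identities between the lifts in the unipotent subgroup of ²F₄(2)
-/

set_option autoImplicit false
set_option maxHeartbeats 1000000

namespace CfsgLib.TitsTwoTrans

open Cfsg.Lie CfsgLib.Chevalley CfsgLib.ReeF4

theorem card_two : Fintype.card (ZMod 2) = 2 ^ (2 * 0 + 1) := by simp

/-- The twist over the field of two elements. -/
def T : Tw (ZMod 2) := mkTw card_two

theorem θ_one : T.θ 1 = 1 := map_one _

/-- The value of an integral word. -/
def ev (w : List (ℕ × ℤ)) : GL D.Idx (ZMod 2) :=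
  wordGL hW.good (w.map fun p => (p.1, (p.2 : ZMod 2)))

theorem ev_append (v w : List (ℕ × ℤ)) : ev (v ++ w) = ev v * ev w := by
  simp [ev, wordGL]

theorem ev_nil : ev [] = 1 := rfl

/-- The word of a lift. -/
def W1 (i : Fin 12) : List (ℕ × ℤ) :=
  ((la i : ℕ), 1) :: ((lb i : ℕ), 1) :: (extra i).map fun r : Root D => ((r : ℕ), 1)

/-- The lift with parameter `1`. -/
def L1 (i : Fin 12) : GL D.Idx (ZMod 2) := T.lift i 1

theorem ev_W1 (i : Fin 12) : ev (W1 i) = L1 i := by
  simp [ev, W1, L1, Tw.lift, wordGL, θ_one, List.map_map, Function.comp_def, x, mul_assoc]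

/-- The word of the second reflection. -/
def nWord : List (ℕ × ℤ) :=
  [(27, 1), (20, 1), (27, 1), (25, 1), (22, 1), (25, 1), (27, 1), (20, 1), (27, 1), (25, 1),
    (22, 1), (25, 1)]

theorem ev_nWord : ev nWord = nJ (ZMod 2) true := by
  have h27 : (rt 27).rev = rt 20 := by decide +kernel
  have h25 : (rt 25).rev = rt 22 := by decide +kernel
  rw [nJ, if_pos rfl, n₁, ← nElt_one hW (nd 1), ← nElt_one hW (nd 2), apart.2.2.2.2.2.1,
    apart.2.2.2.2.2.2]
  simp [ev, nWord, nElt, h27, h25, wgl_cons, wgl_nil, CharTwo.neg_eq, mul_assoc]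

/-- The slots of the elementary abelian subgroup. -/
def eS : Fin 4 → Fin 12 := ![10, 9, 8, 7]

/-- The slots paired with them. -/
def uS' : Fin 4 → Fin 12 := ![0, 2, 4, 5]

/-- The check on a pair of lifts and their product with a lift. -/
def chkMul (v w : List (ℕ × ℤ)) : Bool := chkEven v w

theorem ev_eq {v w : List (ℕ × ℤ)} (h : chkMul v w = true) : ev v = ev w :=
  wordGL_eq_of_chkEven h

theorem comm_check :
    ([(0, 6, 7), (2, 6, 8), (4, 6, 9), (1, 9, 10), (4, 8, 11), (1, 4, 5)] :
      List (Fin 12 × Fin 12 × Fin 12)).all (fun p =>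
        chkMul (W1 p.1 ++ W1 p.2.1) (W1 p.2.2 ++ (W1 p.2.1 ++ W1 p.1))) = true := by
  decide +kernel

theorem elem_check :
    ([7, 8, 9, 10, 11] : List (Fin 12)).all (fun i => chkMul (W1 i ++ W1 i) [] &&
      ([7, 8, 9, 10] : List (Fin 12)).all fun j => chkMul (W1 i ++ W1 j) (W1 j ++ W1 i)) = true := by
  decide +kernel

theorem central_check :
    (List.finRange 12).all (fun i => chkMul (W1 i ++ W1 11) (W1 11 ++ W1 i)) = true ∧
      chkMul (nWord ++ W1 11) (W1 11 ++ nWord) = true := by
  decide +kernel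

theorem pair_check :
    (List.finRange 4).all (fun j => chkMul (W1 6 ++ W1 (eS j)) (W1 (eS j) ++ W1 6) &&
      (List.finRange 4).all fun i => chkMul (W1 (uS' i) ++ W1 (eS j))
        (W1 (eS j) ++ ((if i = j then W1 11 else []) ++ W1 (uS' i)))) = true := by
  decide +kernel

theorem lift_comm {a b c : Fin 12}
    (h : (a, b, c) ∈ ([(0, 6, 7), (2, 6, 8), (4, 6, 9), (1, 9, 10), (4, 8, 11), (1, 4, 5)] :
      List (Fin 12 × Fin 12 × Fin 12))) :
    L1 a * L1 b = L1 c * (L1 b * L1 a) := by
  have := ev_eq (List.all_eq_true.1 comm_check _ h)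
  simpa only [ev_append, ev_W1] using this

theorem eS_mem : ∀ i : Fin 4, eS i ∈ ([7, 8, 9, 10] : List (Fin 12)) ∧
    eS i ∈ ([7, 8, 9, 10, 11] : List (Fin 12)) := by
  decide +kernel

theorem lift_sq {i : Fin 12} (h : i ∈ ([7, 8, 9, 10, 11] : List (Fin 12))) : L1 i * L1 i = 1 := by
  have := List.all_eq_true.1 elem_check _ h
  rw [Bool.and_eq_true] at this
  have := ev_eq this.1
  simpa only [ev_append, ev_W1, ev_nil] using this

theorem lift_commute (i j : Fin 4) : Commute (L1 (eS i)) (L1 (eS j)) := by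
  have := List.all_eq_true.1 elem_check _ (eS_mem i).2
  rw [Bool.and_eq_true] at this
  have := ev_eq (List.all_eq_true.1 this.2 _ (eS_mem j).1)
  simpa only [ev_append, ev_W1, Commute, SemiconjBy] using this

theorem lift_central (i : Fin 12) : Commute (L1 i) (L1 11) := by
  have := ev_eq (List.all_eq_true.1 central_check.1 i (List.mem_finRange i))
  simpa only [ev_append, ev_W1, Commute, SemiconjBy] using this

theorem nJ_central : Commute (nJ (ZMod 2) true) (L1 11) := by
  have := ev_eq central_check.2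
  simpa only [ev_append, ev_W1, ev_nWord, Commute, SemiconjBy] using this

theorem lift_six (j : Fin 4) : Commute (L1 6) (L1 (eS j)) := by
  have := List.all_eq_true.1 pair_check j (List.mem_finRange j)
  rw [Bool.and_eq_true] at this
  have := ev_eq this.1
  simpa only [ev_append, ev_W1, Commute, SemiconjBy] using this

theorem lift_pair (i j : Fin 4) :
    L1 (uS' i) * L1 (eS j) * (L1 (uS' i))⁻¹ = L1 (eS j) * if i = j then L1 11 else 1 := by
  have := List.all_eq_true.1 pair_check j (List.mem_finRange j)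
  rw [Bool.and_eq_true] at this
  have h := ev_eq (List.all_eq_true.1 this.2 i (List.mem_finRange i))
  rw [mul_inv_eq_iff_eq_mul]
  split_ifs at h ⊢ <;> simpa only [ev_append, ev_W1, ev_nil, mul_assoc, mul_one, one_mul] using h

end CfsgLib.TitsTwoTrans
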