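import Cfsg.Agent.TitsTwoTrans.Abstract
import Cfsg.Agent.TitsTwoTrans.Words
import Cfsg.Agent.ReeF4.BN
import Cfsg.Agent.BNPairs.Parabolic

/-!
# The Tits group has no two-transitive action
-/

set_option autoImplicit false
set_option linter.style.haveILetI false
set_option maxHeartbeats 800000
set_option maxRecDepth 8000

namespace CfsgLib.TitsTwoTrans

open Cfsg.Lie CfsgLib.Chevalley CfsgLib.ReeF4

theorem commute_mk {M : Type*} [Group M] {S : Subgroup M} {a b : ↥S}
    (h : Commute (a : M) (b : M)) : Commute a b :=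
  Subtype.ext h

theorem one_of_coe {M : Type*} [Group M] {S : Subgroup M} {a : ↥S} (h : a = 1) : (a : M) = 1 :=
  congrArg Subtype.val h

theorem sq_mk {M : Type*} [Group M] {S : Subgroup M} {a : ↥S} (h : (a : M) * (a : M) = 1) :
    a * a = 1 :=
  Subtype.ext h

theorem sq_mk₂ {M : Type*} [Group M] {S : Subgroup M} {R : Subgroup ↥S} {a : ↥R}
    (h : ((a : ↥S) : M) * ((a : ↥S) : M) = 1) : a * a = 1 :=
  Subtype.ext (Subtype.ext h)

theorem commute_mk₂ {M : Type*} [Group M] {S : Subgroup M} {R : Subgroup ↥S} {a b : ↥R}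
    (h : Commute ((a : ↥S) : M) ((b : ↥S) : M)) : Commute a b :=
  Subtype.ext (Subtype.ext h)

/-- A normal subgroup is generated by its traces on two subgroups containing `B`. -/
theorem generate_traces {G : Type*} [Group G] [Finite G] {N B : Subgroup G} [N.Normal]
    (hNB : N ⊔ B = ⊤) {P : Bool → Subgroup G} (hBP : ∀ j, B ≤ P j) {n : Bool → G}
    (hnP : ∀ j, n j ∈ P j) (hgen : B ⊔ Subgroup.closure (Set.range n) = ⊤) :
    (P true).subgroupOf N ⊔ (P false).subgroupOf N = ⊤ := by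
  set L := (P true ⊓ N) ⊔ (P false ⊓ N) with hL
  have hconj : ∀ j, ∀ b ∈ B, ∀ x ∈ P j ⊓ N, b * x * b⁻¹ ∈ P j ⊓ N := fun j b hb x hx =>
    Subgroup.mem_inf.2 ⟨mul_mem (mul_mem (hBP j hb) (Subgroup.mem_inf.1 hx).1)
      (inv_mem (hBP j hb)), (inferInstance : N.Normal).conj_mem x (Subgroup.mem_inf.1 hx).2 b⟩
  have hBL : B ≤ Subgroup.normalizer (L : Set G) := by
    intro b hb
    have h : L ≤ L.comap (MulAut.conj b).toMonoidHom :=
      sup_le (fun x hx => Subgroup.mem_sup_left (hconj true b hb x hx))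
        fun x hx => Subgroup.mem_sup_right (hconj false b hb x hx)
    exact Subgroup.mem_normalizer_fintype fun x hx => h hx
  have hLB : L ⊔ B = ⊤ := by
    rw [eq_top_iff, ← hgen]
    refine sup_le le_sup_right ((Subgroup.closure_le _).2 ?_)
    rintro _ ⟨j, rfl⟩
    have hmem : n j ∈ ((N ⊔ B : Subgroup G) : Set G) := by rw [hNB]; trivial
    rw [Subgroup.normal_mul] at hmem
    obtain ⟨m, hm, b, hb, e⟩ := Set.mem_mul.1 hmem
    have hmP : m ∈ P j := by
      rw [show m = n j * b⁻¹ by rw [← e]; group]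
      exact mul_mem (hnP j) (inv_mem (hBP j hb))
    rw [← e]
    refine mul_mem (Subgroup.mem_sup_left ?_) (Subgroup.mem_sup_right hb)
    cases j
    · exact Subgroup.mem_sup_right (Subgroup.mem_inf.2 ⟨hmP, hm⟩)
    · exact Subgroup.mem_sup_left (Subgroup.mem_inf.2 ⟨hmP, hm⟩)
  rw [eq_top_iff]
  intro g _
  have hg : (g : G) ∈ ((B ⊔ L : Subgroup G) : Set G) := by rw [sup_comm, hLB]; trivial
  rw [Subgroup.coe_mul_of_left_le_normalizer_right B L hBL] at hg
  obtain ⟨b, hb, l, hl, e⟩ := Set.mem_mul.1 hg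
  have hLN : L ≤ N := sup_le inf_le_right inf_le_right
  have hbL : b ∈ L := by
    refine Subgroup.mem_sup_left (Subgroup.mem_inf.2 ⟨hBP true hb, ?_⟩)
    rw [show b = (g : G) * l⁻¹ by rw [← e]; group]
    exact mul_mem g.2 (inv_mem (hLN hl))
  have hgL : (g : G) ∈ ((P true).subgroupOf N ⊔ (P false).subgroupOf N).map N.subtype := by
    rw [Subgroup.map_sup, Subgroup.subgroupOf_map_subtype, Subgroup.subgroupOf_map_subtype, ← e]
    exact mul_mem hbL hl
  obtain ⟨g', hg', e'⟩ := hgL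
  exact (Subtype.ext e' : g' = g) ▸ hg'

/-- The trace on a normal supplement has the same index. -/
theorem index_subgroupOf_supplement {G : Type*} [Group G] {N B : Subgroup G} [N.Normal]
    (hNB : N ⊔ B = ⊤) : (B.subgroupOf N).index = B.index := by
  haveI : MulAction.IsPretransitive ↥N (G ⧸ B) := by
    have h1 : ∀ q : G ⧸ B, ∃ m : ↥N, m • ((1 : G) : G ⧸ B) = q := by
      intro q
      obtain ⟨g, rfl⟩ := QuotientGroup.mk_surjective q
      have hg : g ∈ ((N ⊔ B : Subgroup G) : Set G) := by rw [hNB]; trivial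
      rw [Subgroup.normal_mul] at hg
      obtain ⟨m, hm, b, hb, rfl⟩ := Set.mem_mul.1 hg
      refine ⟨⟨m, hm⟩, ?_⟩
      show ((m * 1 : G) : G ⧸ B) = _
      rw [QuotientGroup.eq]
      simpa using hb
    refine ⟨fun x y => ?_⟩
    obtain ⟨a, rfl⟩ := h1 x
    obtain ⟨b, rfl⟩ := h1 y
    exact ⟨b * a⁻¹, by rw [mul_smul, inv_smul_smul]⟩
  have h := MulAction.index_stabilizer_of_transitive ↥N ((1 : G) : G ⧸ B)
  have hst : MulAction.stabilizer ↥N ((1 : G) : G ⧸ B) = B.subgroupOf N := by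
    ext m
    rw [MulAction.mem_stabilizer_iff, Subgroup.mem_subgroupOf]
    show ((((m : G) * 1 : G)) : G ⧸ B) = ((1 : G) : G ⧸ B) ↔ _
    rw [QuotientGroup.eq]
    simp
  rw [hst] at h
  exact h

theorem relIndex_le_of_map_comap {G G' : Type*} [Group G] [Group G'] [Finite G] (B P : Subgroup G)
    (f : G' →* G) : (B.comap f).relIndex (P.comap f) ≤ B.relIndex P := by
  rw [Subgroup.relIndex_comap]
  exact Subgroup.relIndex_le_of_le_right (Subgroup.map_comap_le _ _) Subgroup.index_ne_zero_of_finite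

/-- The twisted group over the field of two elements. -/
abbrev GT : Subgroup (GL D.Idx (ZMod 2)) := T.G1

/-- A lift as an element of the group. -/
def gL (i : Fin 12) : ↥GT := ⟨L1 i, T.lift_mem i 1⟩

theorem coe_gL (i : Fin 12) : (gL i : GL D.Idx (ZMod 2)) = L1 i := rfl

theorem L1_def (i : Fin 12) : L1 i = T.lift i 1 := rfl

theorem commute_gL (i j : Fin 12) (h : Commute (L1 i) (L1 j)) : Commute (gL i) (gL j) :=
  commute_mk h

theorem commute_nG (i : Fin 12) (h : Commute (nJ (ZMod 2) true) (L1 i)) :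
    Commute (T.nG true) (gL i) :=
  commute_mk h

theorem eq_one_gL (i : Fin 12) (h : gL i = 1) : T.lift i 1 = 1 := by
  rw [← L1_def, ← coe_gL, h, OneMemClass.coe_one]

theorem commute_of_central (i : Fin 12) (g : ↥GT)
    (h : (g : GL D.Idx (ZMod 2)) * L1 i = L1 i * (g : GL D.Idx (ZMod 2))) : g * gL i = gL i * g := by
  apply Subtype.ext
  rw [Subgroup.coe_mul, Subgroup.coe_mul, coe_gL]
  exact h

theorem GT_eq : twistedF4 (ZMod 2) 1 = GT := by
  show twistedF4 (ZMod 2) 1 = twistedF4 (ZMod 2) (2 ^ 0)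
  rw [pow_zero]

theorem card_K : Nat.card (ZMod 2) = 2 := Nat.card_zmod 2

theorem card_GT : Nat.card ↥GT = 35942400 := by
  rw [T.natCard_G1 card_K]
  norm_num

theorem kind_eq : kind 0 = kind 5 ∧ kind 2 = kind 6 ∧ kind 4 = kind 6 := by decide +kernel

attribute [local irreducible] L1 nJ

theorem ab_gL (i : Fin 12) :
    Abelianization.of (gL i) = Abelianization.of (⟨T.baseE (kind i) 1, T.baseE_mem _ _⟩ : ↥GT) := by
  have h : gL i = (⟨nD (ZMod 2) (mover i), T.nD_mem _⟩ : ↥GT) * ⟨T.baseE (kind i) 1, T.baseE_mem _ _⟩ *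
      (⟨nD (ZMod 2) (mover i), T.nD_mem _⟩ : ↥GT)⁻¹ := Subtype.ext ((coe_gL i).trans ((L1_def i).trans (T.lift_eq i 1)))
  rw [h, map_mul, map_mul, map_inv, mul_comm (Abelianization.of (⟨nD _ _, _⟩ : ↥GT)),
    mul_inv_cancel_right]

theorem ab_kind {i j : Fin 12} (h : kind i = kind j) :
    Abelianization.of (gL i) = Abelianization.of (gL j) := by
  rw [ab_gL, ab_gL]
  congr 1
  exact Subtype.ext (by simp only [h])

theorem mem_commutator_iff (g : ↥GT) : g ∈ commutator ↥GT ↔ Abelianization.of g = 1 := by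
  rw [← MonoidHom.mem_ker, Abelianization.ker_of]

theorem gL_mem {a b c : Fin 12}
    (h : (a, b, c) ∈ ([(0, 6, 7), (2, 6, 8), (4, 6, 9), (1, 9, 10), (4, 8, 11), (1, 4, 5)] :
      List (Fin 12 × Fin 12 × Fin 12))) : gL c ∈ commutator ↥GT := by
  have e : gL a * gL b = gL c * (gL b * gL a) := Subtype.ext (lift_comm h)
  have e2 := congrArg Abelianization.of e
  rw [map_mul, map_mul, map_mul, mul_comm (Abelianization.of (gL b))] at e2
  rw [mem_commutator_iff]
  exact mul_eq_right.1 e2.symm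

theorem eS_commutator (i : Fin 4) : gL (eS i) ∈ commutator ↥GT := by
  fin_cases i
  · exact gL_mem (a := 1) (b := 9) (by simp [eS])
  · exact gL_mem (a := 4) (b := 6) (by simp [eS])
  · exact gL_mem (a := 2) (b := 6) (by simp [eS])
  · exact gL_mem (a := 0) (b := 6) (by simp [eS])

/-- The elements acting on the subgroup. -/
def uElt : Fin 4 → ↥GT := ![gL 0, gL 2 * (gL 6)⁻¹, gL 4 * (gL 6)⁻¹, gL 5]

theorem uElt_commutator (i : Fin 4) : uElt i ∈ commutator ↥GT := by
  have h5 : gL 5 ∈ commutator ↥GT := gL_mem (a := 1) (b := 4) (by simp)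
  have h0 : gL 0 ∈ commutator ↥GT := by
    rw [mem_commutator_iff, ab_kind kind_eq.1]
    exact (mem_commutator_iff _).1 h5
  fin_cases i
  · exact h0
  · show gL 2 * (gL 6)⁻¹ ∈ _
    rw [mem_commutator_iff, map_mul, map_inv, ab_kind kind_eq.2.1, mul_inv_cancel]
  · show gL 4 * (gL 6)⁻¹ ∈ _
    rw [mem_commutator_iff, map_mul, map_inv, ab_kind kind_eq.2.2, mul_inv_cancel]
  · exact h5

theorem gL_pair (i j : Fin 4) :
    gL (uS' i) * gL (eS j) * (gL (uS' i))⁻¹ = gL (eS j) * if i = j then gL 11 else 1 := by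
  refine Subtype.ext ?_
  have h := lift_pair i j
  split_ifs at h ⊢ <;> exact h

theorem uElt_pair (i j : Fin 4) :
    uElt i * gL (eS j) * (uElt i)⁻¹ = gL (eS j) * if i = j then gL 11 else 1 := by
  have h6 : Commute (gL 6)⁻¹ (gL (eS j)) :=
    Commute.inv_left (commute_gL 6 (eS j) (lift_six j))
  have key : ∀ a : ↥GT, a * (gL 6)⁻¹ * gL (eS j) * (a * (gL 6)⁻¹)⁻¹ = a * gL (eS j) * a⁻¹ := by
    intro a
    rw [mul_assoc a, h6.eq]
    group
  have h := gL_pair i j
  fin_cases i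
  · exact h
  · exact (key _).trans h
  · exact (key _).trans h
  · exact h

/-- The Borel subgroup. -/
abbrev BT : Subgroup ↥GT := (D.borelSubgroup (ZMod 2) ⊓ GT).subgroupOf GT

theorem borel_eq : D.borelSubgroup (ZMod 2) ⊓ GT = T.U1 := by
  refine le_antisymm (fun b hb => ?_) T.U1_le_B
  obtain ⟨u, hu, h, hh, rfl⟩ := T.borel_mem hb
  have h1 : T.H1 = ⊥ := Subgroup.eq_bot_of_card_eq _ (by rw [T.natCard_H1, card_K]; norm_num)
  rw [h1, Subgroup.mem_bot] at hh
  rwa [hh, mul_one]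

theorem mem_BT {g : ↥GT} : g ∈ BT ↔ (g : GL D.Idx (ZMod 2)) ∈ T.U1 := by
  rw [Subgroup.mem_subgroupOf, borel_eq]

theorem card_BT : Nat.card ↥BT = 4096 := by
  rw [Nat.card_congr (Subgroup.subgroupOfEquivOfLe inf_le_right).toEquiv, borel_eq, T.natCard_U1,
    card_K]
  norm_num

theorem index_BT : BT.index = 8775 := by
  have h := BT.card_mul_index
  rw [card_BT, card_GT] at h
  omega

theorem gL_mem_BT (i : Fin 12) : gL i ∈ BT := by
  rw [mem_BT, T.U1_eq, coe_gL, L1_def]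
  exact Subgroup.mem_inf.2 ⟨uS_anti (Nat.zero_le _)
    (T.lift_mem_uS allS_ok i 1 (slot_facts i).1), T.lift_fix i 1⟩

theorem zero_or_one : ∀ t : ZMod 2, t = 0 ∨ t = 1 := by decide

theorem BT_central {g : ↥GT} (hg : g ∈ BT) : g * gL 11 = gL 11 * g := by
  have hle : T.U1 ≤ Subgroup.centralizer ({L1 11} : Set (GL D.Idx (ZMod 2))) := by
    rw [T.U1_eq]
    refine T.uF_le allS_ok (fun i _ t => ?_) 0
    rw [Subgroup.mem_centralizer_singleton_iff]
    rcases zero_or_one t with rfl | rfl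
    · rw [T.lift_zero, one_mul, mul_one]
    · rw [← L1_def]
      exact (lift_central i).eq
  have h2 : (g : GL D.Idx (ZMod 2)) ∈ Subgroup.centralizer ({L1 11} : Set (GL D.Idx (ZMod 2))) :=
    hle (mem_BT.1 hg)
  rw [Subgroup.mem_centralizer_singleton_iff] at h2
  exact commute_of_central 11 g h2

theorem gL_eleven_ne : gL 11 ≠ 1 := by
  intro h
  have h3 : T.lift 11 1 = 1 := eq_one_gL 11 h
  obtain ⟨z, hz, ez⟩ := T.lift_eq_lead allS_ok 11 1 (slot_facts 11).1
  have h4 : lead 11 (T.θ 1) (1 : ZMod 2) * z = lead 11 0 0 * 1 := by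
    rw [← ez, h3]; simp [lead, x_zero]
  exact one_ne_zero (lead_unique hz (one_mem _) h4).2

/-- The parabolic subgroup of an orbit of nodes. -/
def PT (j : Bool) : Subgroup ↥GT := BT ⊔ Subgroup.closure {T.nG j}

theorem BT_le_PT (j : Bool) : BT ≤ PT j := le_sup_left

theorem PT_central {g : ↥GT} (hg : g ∈ PT true) : g * gL 11 = gL 11 * g := by
  have hle : PT true ≤ Subgroup.centralizer ({gL 11} : Set ↥GT) := by
    refine sup_le (fun b hb => ?_) ?_
    · rw [Subgroup.mem_centralizer_singleton_iff]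
      exact BT_central hb
    · rw [Subgroup.closure_le, Set.singleton_subset_iff, SetLike.mem_coe,
        Subgroup.mem_centralizer_singleton_iff]
      exact (commute_nG 11 nJ_central).eq
  have h2 := hle hg
  rw [Subgroup.mem_centralizer_singleton_iff] at h2
  exact h2

theorem mem_PT {P : Cfsg.BNPair ↥GT} (hB : P.B = BT) (hS : P.S = Set.range T.nG) {j : Bool}
    {g : ↥GT} (hg : g ∈ PT j) : g ∈ P.B ∨ g ∈ BNPairs.cell P (T.nG j) := by
  have hs : T.nG j ∈ P.S := hS ▸ ⟨j, rfl⟩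
  let S : Subgroup ↥GT :=
    { carrier := {g | ∀ c, (c ∈ P.B ∨ c ∈ BNPairs.cell P (T.nG j)) →
        ((g * c ∈ P.B ∨ g * c ∈ BNPairs.cell P (T.nG j)) ∧
          (g⁻¹ * c ∈ P.B ∨ g⁻¹ * c ∈ BNPairs.cell P (T.nG j)))}
      one_mem' := fun c hc => ⟨by rwa [one_mul], by rwa [inv_one, one_mul]⟩
      mul_mem' := @fun a b ha hb c hc => ⟨by rw [mul_assoc]; exact (ha _ (hb c hc).1).1,
        by rw [mul_inv_rev, mul_assoc]; exact (hb _ (ha c hc).2).2⟩
      inv_mem' := @fun a ha c hc => ⟨(ha c hc).2, by rw [inv_inv]; exact (ha c hc).1⟩ }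
  have hBS : P.B ≤ S := fun b hb c hc => by
    rcases hc with hc | hc
    · exact ⟨Or.inl (mul_mem hb hc), Or.inl (mul_mem (inv_mem hb) hc)⟩
    · exact ⟨Or.inr (BNPairs.mem_cell_left hb hc), Or.inr (BNPairs.mem_cell_left (inv_mem hb) hc)⟩
  have hstep : ∀ c, (c ∈ P.B ∨ c ∈ BNPairs.cell P (T.nG j)) →
      (T.nG j * c ∈ P.B ∨ T.nG j * c ∈ BNPairs.cell P (T.nG j)) := by
    intro c hc
    rcases hc with hc | hc
    · exact Or.inr (BNPairs.mem_cell_right hc (BNPairs.self_mem_cell _))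
    · rcases BNPairs.left_mul_cell hs (P.subset hs) hc with h | h
      · exact Or.inl (BNPairs.mem_B_of_mem_cell (P.sq_mem _ hs) h)
      · exact Or.inr h
  have hnS : T.nG j ∈ S := fun c hc => by
    refine ⟨hstep c hc, ?_⟩
    have hsq : (T.nG j * T.nG j)⁻¹ ∈ P.B := inv_mem (P.sq_mem _ hs)
    rw [show (T.nG j)⁻¹ * c = T.nG j * ((T.nG j * T.nG j)⁻¹ * c) by group]
    rcases hc with hc | hc
    · exact hstep _ (Or.inl (mul_mem hsq hc))
    · exact hstep _ (Or.inr (BNPairs.mem_cell_left hsq hc))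
  have hle : PT j ≤ S := sup_le (hB ▸ hBS) ((Subgroup.closure_le _).2 (by simpa using hnS))
  have := (hle hg 1 (Or.inl (one_mem _))).1
  rwa [mul_one] at this

theorem relIndex_PT (j : Bool) : BT.relIndex (PT j) ≤ 1 + 2 ^ nSlots (clsS j) := by
  classical
  obtain ⟨P, hB, -, hS⟩ := T.exists_bnPair
  have hYG : ∀ y : ↥(T.uF (clsS j) 0), (y : GL D.Idx (ZMod 2)) ∈ GT := fun y =>
    T.uF_le_G1 (clsS_set j) 0 y.2
  have hYB : ∀ y : ↥(T.uF (clsS j) 0), (⟨y, hYG y⟩ : ↥GT) ∈ PT j := fun y =>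
    BT_le_PT j (mem_BT.2 (T.uF_le_U1 (clsS_set j) 0 y.2))
  have hn : T.nG j ∈ PT j := Subgroup.mem_sup_right (Subgroup.subset_closure rfl)
  let f : Option ↥(T.uF (clsS j) 0) → ↥(PT j) ⧸ BT.subgroupOf (PT j) := fun o =>
    Option.elim o (QuotientGroup.mk 1)
      fun y => QuotientGroup.mk ⟨⟨y, hYG y⟩ * T.nG j, mul_mem (hYB y) hn⟩
  have hf : Function.Surjective f := by
    intro q
    obtain ⟨⟨g, hg⟩, rfl⟩ := QuotientGroup.mk_surjective q
    rcases mem_PT hB hS hg with h | h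
    · refine ⟨none, QuotientGroup.eq.2 (Subgroup.mem_subgroupOf.2 ?_)⟩
      rw [hB] at h
      simpa using h
    · obtain ⟨b, hb, b', hb', e⟩ := BNPairs.mem_cell.1 h
      rw [hB] at hb hb'
      obtain ⟨v, hv, y, hy, e'⟩ := T.exists_split_U1 j (inv_mem (mem_BT.1 hb))
      refine ⟨some ⟨y⁻¹, inv_mem hy⟩, QuotientGroup.eq.2 (Subgroup.mem_subgroupOf.2 ?_)⟩
      rw [mem_BT]
      show (y⁻¹ * nJ (ZMod 2) j)⁻¹ * (g : GL D.Idx (ZMod 2)) ∈ T.U1
      rw [e]
      show (y⁻¹ * nJ (ZMod 2) j)⁻¹ *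
        ((b : GL D.Idx (ZMod 2)) * nJ (ZMod 2) j * (b' : GL D.Idx (ZMod 2))) ∈ T.U1
      have hmove : (nJ (ZMod 2) j)⁻¹ * v⁻¹ * ((nJ (ZMod 2) j)⁻¹)⁻¹ ∈ T.U1 := by
        refine T.move_U1 (d := dJ j) ?_ (inv_mem (T.nJ_fix j)) (S := complS j) (fun r hr => ?_)
          (inv_mem hv)
        · have := (monBy_nJ (K := ZMod 2) j).inv
          rwa [← map_inv, inv_eq_of_mul_eq_one_right (dJ_sq j)] at this
        · exact (set_root (complS_set j) ((dJ_facts j r).2 hr).1).1
      rw [inv_inv] at hmove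
      have hb2 : (b : GL D.Idx (ZMod 2)) = y⁻¹ * v⁻¹ := by
        rw [← mul_inv_rev, e', inv_inv]
      rw [hb2, show (y⁻¹ * nJ (ZMod 2) j)⁻¹ * (y⁻¹ * v⁻¹ * nJ (ZMod 2) j * (b' : GL D.Idx (ZMod 2))) =
        (nJ (ZMod 2) j)⁻¹ * v⁻¹ * nJ (ZMod 2) j * (b' : GL D.Idx (ZMod 2)) by group]
      exact mul_mem hmove (mem_BT.1 hb')
  calc BT.relIndex (PT j) = Nat.card (↥(PT j) ⧸ BT.subgroupOf (PT j)) := rfl
    _ ≤ Nat.card (Option ↥(T.uF (clsS j) 0)) := Nat.card_le_card_of_surjective f hf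
    _ = 1 + 2 ^ nSlots (clsS j) := by
      rw [Finite.card_option, T.natCard_uF (clsS_set j), card_K, add_comm]

theorem nSlots_cls : nSlots (clsS false) = 1 ∧ nSlots (clsS true) = 2 := by decide +kernel

theorem card_PT_false : Nat.card ↥(PT false) ∣ 3 * 2 ^ 13 := by
  have h3 := relIndex_PT false
  rw [nSlots_cls.1] at h3
  have hmul := Subgroup.relIndex_mul_index (BT_le_PT false)
  rw [index_BT] at hmul
  have hodd : ¬ 2 ∣ BT.relIndex (PT false) := fun h => by
    have := h.trans (hmul ▸ dvd_mul_right _ _)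
    norm_num at this
  have hcard : Nat.card ↥(PT false) = BT.relIndex (PT false) * 4096 := by
    rw [← card_BT, ← Subgroup.relIndex_bot_left, ← Subgroup.relIndex_bot_left, mul_comm,
      Subgroup.relIndex_mul_relIndex _ _ _ bot_le (BT_le_PT false)]
  rw [hcard]
  generalize BT.relIndex (PT false) = k at h3 hodd hmul
  interval_cases k
  · simp at hmul
  · norm_num
  · norm_num at hodd
  · norm_num

theorem isPGroup_BT : IsPGroup 2 ↥BT :=
  IsPGroup.of_card (n := 12) (by rw [card_BT]; norm_num)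

theorem commutator_sup_BT : commutator ↥GT ⊔ BT = ⊤ := by
  obtain ⟨P, hB, -, hS⟩ := T.exists_bnPair
  set M := commutator ↥GT ⊔ BT with hM
  haveI : M.Normal := ⟨fun m hm g => by
    rw [show g * m * g⁻¹ = (g * m * g⁻¹ * m⁻¹) * m by group]
    refine mul_mem (Subgroup.mem_sup_left ?_) hm
    rw [commutator_def]
    exact Subgroup.commutator_mem_commutator (Subgroup.mem_top g) (Subgroup.mem_top m)⟩
  have hodd : ¬ 2 ∣ Nat.card (↥GT ⧸ M) := fun h => by
    have h' := h.trans (Subgroup.index_dvd_of_le (le_sup_right : BT ≤ M))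
    rw [index_BT] at h'
    norm_num at h'
  have hs : ∀ s ∈ P.S, s ∈ M := by
    intro s hs
    rw [← QuotientGroup.eq_one_iff]
    have hsq : (s : ↥GT ⧸ M) ^ 2 = 1 := by
      rw [← QuotientGroup.mk_pow, QuotientGroup.eq_one_iff, pow_two]
      have hq := P.sq_mem s hs
      rw [hB] at hq
      exact Subgroup.mem_sup_right hq
    refine orderOf_eq_one_iff.1 ?_
    rcases (Nat.dvd_prime Nat.prime_two).1 (orderOf_dvd_of_pow_eq_one hsq) with h | h
    · exact h
    · have h' := orderOf_dvd_natCard (s : ↥GT ⧸ M)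
      rw [h] at h'
      exact absurd h' hodd
  rw [eq_top_iff, ← P.sup_eq_top]
  refine sup_le (hB ▸ le_sup_right) ?_
  rw [← P.closure_sup]
  exact sup_le ((Subgroup.closure_le _).2 hs) (inf_le_left.trans (hB ▸ le_sup_right))

theorem parabolics_generate :
    (PT true).subgroupOf (commutator ↥GT) ⊔ (PT false).subgroupOf (commutator ↥GT) = ⊤ := by
  obtain ⟨P, hB, -, hS⟩ := T.exists_bnPair
  refine generate_traces commutator_sup_BT BT_le_PT (n := T.nG)
    (fun j => Subgroup.mem_sup_right (Subgroup.subset_closure rfl)) ?_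
  rw [eq_top_iff, ← P.sup_eq_top, ← P.closure_sup, hB, hS]
  exact sup_le le_sup_left (sup_le le_sup_right (inf_le_left.trans le_sup_left))

/-- The Tits group has no two-transitive action of degree at least three. -/
theorem not_two_transitive_GT {Ω : Type*} [Fintype Ω] [MulAction ↥(commutator ↥GT) Ω]
    [FaithfulSMul ↥(commutator ↥GT) Ω] (h3 : 3 ≤ Fintype.card Ω) :
    ¬ MulAction.IsMultiplyPretransitive ↥(commutator ↥GT) Ω 2 := by
  have hz : gL 11 ∈ (commutator ↥GT) := gL_mem (a := 4) (b := 8) (by simp)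
  refine not_two_transitive (U := BT.subgroupOf (commutator ↥GT)) (P := (PT true).subgroupOf (commutator ↥GT))
    (Q := (PT false).subgroupOf (commutator ↥GT)) (z := ⟨gL 11, hz⟩)
    (e := fun i => ⟨gL (eS i), eS_commutator i⟩) (u := fun i => ⟨uElt i, uElt_commutator i⟩)
    ?_ ?_ ?_ (fun g hg => BT_le_PT true hg) (fun g hg => BT_le_PT false hg) ?_ ?_ ?_
    parabolics_generate ?_ ?_ ?_ ?_ ?_ ?_ ?_ ?_ ?_ h3
  · have h := Subgroup.card_subgroup_dvd_card (commutator ↥GT)
    rwa [card_GT] at h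
  · exact isPGroup_BT.comap_of_injective (commutator ↥GT).subtype (commutator ↥GT).subtype_injective
  · intro h
    rw [index_subgroupOf_supplement commutator_sup_BT, index_BT] at h
    norm_num at h
  · refine le_trans ?_ ((relIndex_PT true).trans (by rw [nSlots_cls.2]; norm_num))
    exact relIndex_le_of_map_comap BT _ _
  · refine le_trans ?_ ((relIndex_PT false).trans (by rw [nSlots_cls.1]; norm_num))
    exact relIndex_le_of_map_comap BT _ _
  · exact (Subgroup.card_comap_dvd_of_injective (PT false) (commutator ↥GT).subtype (commutator ↥GT).subtype_injective).trans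
      card_PT_false
  · intro h
    exact gL_eleven_ne (one_of_coe h)
  · exact sq_mk₂ (lift_sq (by simp))
  · exact gL_mem_BT 11
  · intro g hg
    exact Subtype.ext (PT_central hg)
  · intro i
    exact sq_mk₂ (lift_sq (eS_mem i).2)
  · intro i j
    exact commute_mk₂ (lift_commute i j)
  · exact fun i => gL_mem_BT _
  · intro i
    show uElt i ∈ BT
    fin_cases i
    · exact gL_mem_BT 0
    · exact mul_mem (gL_mem_BT 2) (inv_mem (gL_mem_BT 6))
    · exact mul_mem (gL_mem_BT 4) (inv_mem (gL_mem_BT 6))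
    · exact gL_mem_BT 5
  · intro i j
    refine Subtype.ext ?_
    have h := uElt_pair i j
    split_ifs at h ⊢ <;> exact h

theorem no_two_transitive_of_eq {H : Subgroup (GL D.Idx (ZMod 2))} (hH : H = GT) {Ω : Type*}
    [Fintype Ω] [MulAction ↥(commutator ↥H) Ω] [FaithfulSMul ↥(commutator ↥H) Ω]
    (h3 : 3 ≤ Fintype.card Ω) : ¬ MulAction.IsMultiplyPretransitive ↥(commutator ↥H) Ω 2 := by
  subst hH
  exact not_two_transitive_GT h3

end CfsgLib.TitsTwoTrans
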