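import Mathlib.GroupTheory.GroupAction.MultipleTransitivity
import Mathlib.GroupTheory.GroupAction.Quotient
import Mathlib.GroupTheory.Sylow
import Mathlib.GroupTheory.NoncommCoprod
import Mathlib.Algebra.Group.Pointwise.Finset.Basic
import Mathlib.Data.Fintype.CardEmbedding
import Mathlib.Tactic.IntervalCases

/-!
# No two-transitive actions from an elementary abelian subgroup of order 32

`z` is central in the Sylow 2-subgroup `U` and lies in an elementary abelian group of order 32 in
which every element outside `⟨z⟩` is conjugate to its product with `z`. Then the number of points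
moved by `z` in a `U`-invariant set is divisible by 32.
-/

set_option autoImplicit false
set_option linter.unusedSectionVars false
set_option linter.style.haveILetI false
set_option linter.unusedSimpArgs false

namespace CfsgLib.TitsTwoTrans

open scoped Pointwise

theorem smul_mem_orbit {G α : Type*} [Group G] [MulAction G α] (g : G) {a x : α} :
    g • x ∈ MulAction.orbit G a ↔ x ∈ MulAction.orbit G a := by
  rw [← MulAction.orbit_eq_iff, ← MulAction.orbit_eq_iff, MulAction.orbit_smul]

/-- The group of order 16. -/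
abbrev A4 : Type :=
  ((Multiplicative (ZMod 2) × Multiplicative (ZMod 2)) × Multiplicative (ZMod 2)) ×
    Multiplicative (ZMod 2)

section Hom

variable {N : Type*} [Group N]

/-- The homomorphism sending the generator to an involution. -/
def twoHom (e : N) (he : e * e = 1) : Multiplicative (ZMod 2) →* N where
  toFun x := e ^ x.toAdd.val
  map_one' := by simp
  map_mul' x y := by
    rw [toAdd_mul, ZMod.val_add, ← pow_add]
    exact (pow_eq_pow_mod (n := 2) _ (by rw [pow_two, he])).symm

theorem two_cases (x : Multiplicative (ZMod 2)) :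
    x = 1 ∨ x = Multiplicative.ofAdd (1 : ZMod 2) := by
  revert x
  decide

theorem twoHom_gen (e : N) (he : e * e = 1) :
    twoHom e he (Multiplicative.ofAdd (1 : ZMod 2)) = e := by
  show e ^ ((1 : ZMod 2).val) = e
  rw [show (1 : ZMod 2).val = 1 from rfl, pow_one]

theorem twoHom_commute {e f : N} (he : e * e = 1) (hf : f * f = 1) (h : Commute e f)
    (x y : Multiplicative (ZMod 2)) : Commute (twoHom e he x) (twoHom f hf y) :=
  h.pow_pow _ _

theorem four_hom (e : Fin 4 → N) (he : ∀ i, e i * e i = 1) (hc : ∀ i j, Commute (e i) (e j)) :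
    ∃ φ : A4 →* N, ∀ x : A4, φ x = twoHom (e 0) (he 0) x.1.1.1 * twoHom (e 1) (he 1) x.1.1.2 *
      twoHom (e 2) (he 2) x.1.2 * twoHom (e 3) (he 3) x.2 := by
  have h : ∀ i j x y, Commute (twoHom (e i) (he i) x) (twoHom (e j) (he j) y) :=
    fun i j x y => twoHom_commute (he i) (he j) (hc i j) x y
  refine ⟨(((twoHom (e 0) (he 0)).noncommCoprod (twoHom (e 1) (he 1)) (h 0 1)).noncommCoprod
    (twoHom (e 2) (he 2)) fun p y => ?_).noncommCoprod (twoHom (e 3) (he 3)) fun p y => ?_,
    fun x => rfl⟩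
  · exact (h 0 2 _ _).mul_left (h 1 2 _ _)
  · exact ((h 0 3 _ _).mul_left (h 1 3 _ _)).mul_left (h 2 3 _ _)

end Hom

section Count

variable {N Ω : Type*} [Group N] [MulAction N Ω] [Finite Ω]

/-- The number of fixed points of `x` in a set. -/
noncomputable def fixIn (S : Set Ω) (x : N) : ℕ := Nat.card {a : Ω // a ∈ S ∧ x • a = a}

theorem sum_fixIn {A : Type*} [Group A] [Fintype A] (φ : A →* N) (S : Set Ω)
    (hS : ∀ (c : A) (a : Ω), a ∈ S → φ c • a ∈ S) :
    Fintype.card A ∣ ∑ c : A, fixIn S (φ c) := by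
  classical
  letI : MulAction A ↥S :=
    { smul := fun c a => ⟨φ c • (a : Ω), hS c a a.2⟩
      one_smul := fun a => Subtype.ext (show φ 1 • (a : Ω) = a by rw [map_one, one_smul])
      mul_smul := fun c d a => Subtype.ext
        (show φ (c * d) • (a : Ω) = φ c • φ d • (a : Ω) by rw [map_mul, mul_smul]) }
  letI := Fintype.ofFinite ↥S
  refine ⟨Fintype.card (Quotient (MulAction.orbitRel A ↥S)), ?_⟩
  rw [mul_comm, ← MulAction.sum_card_fixedBy_eq_card_orbits_mul_card_group A ↥S]
  refine Finset.sum_congr rfl fun c _ => ?_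
  rw [fixIn, ← Nat.card_eq_fintype_card]
  exact Nat.card_congr
    { toFun := fun a => ⟨⟨a.1, a.2.1⟩, Subtype.ext a.2.2⟩
      invFun := fun a => ⟨(a.1 : Ω), a.1.2, congrArg Subtype.val a.2⟩
      left_inv := fun a => rfl
      right_inv := fun a => rfl }

theorem fixIn_conj (S : Set Ω) (v x : N) (hv : ∀ a, v • a ∈ S ↔ a ∈ S) :
    fixIn S (v * x * v⁻¹) = fixIn S x := by
  refine (Nat.card_congr ((MulAction.toPerm v).subtypeEquiv fun a => ?_)).symm
  simp [mul_smul, hv]

end Count

/-- Sets invariant under `U` of points moved by `z` have size divisible by 32. -/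
theorem dvd_card_moved {N Ω : Type*} [Group N] [MulAction N Ω] [Finite Ω] {U : Subgroup N}
    {z : N} {e u : Fin 4 → N} (hz2 : z * z = 1) (hzU : z ∈ U) (he : ∀ i, e i * e i = 1)
    (hc : ∀ i j, Commute (e i) (e j)) (hze : ∀ i, Commute (e i) z) (heU : ∀ i, e i ∈ U)
    (huU : ∀ i, u i ∈ U) (hue : ∀ i j, u i * e j * (u i)⁻¹ = e j * if i = j then z else 1)
    (S : Set Ω) (hS : ∀ g ∈ U, ∀ a ∈ S, g • a ∈ S) (hmoved : ∀ a ∈ S, z • a ≠ a) :
    32 ∣ Nat.card ↥S := by
  classical
  obtain ⟨φ, hφ⟩ := four_hom e he hc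
  have hφU : ∀ x, φ x ∈ U := fun x => by
    rw [hφ]
    exact mul_mem (mul_mem (mul_mem (pow_mem (heU 0) _) (pow_mem (heU 1) _)) (pow_mem (heU 2) _))
      (pow_mem (heU 3) _)
  have hiff : ∀ g ∈ U, ∀ a, g • a ∈ S ↔ a ∈ S := fun g hg a =>
    ⟨fun h => by have := hS g⁻¹ (inv_mem hg) _ h; rwa [inv_smul_smul] at this, hS g hg a⟩
  have hφz : ∀ x, Commute (φ x) z := fun x => by
    rw [hφ]
    exact (((hze 0).pow_left _).mul_left ((hze 1).pow_left _)).mul_left ((hze 2).pow_left _)
      |>.mul_left ((hze 3).pow_left _)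
  let ψ : A4 × Multiplicative (ZMod 2) →* N :=
    φ.noncommCoprod (twoHom z hz2) fun x y => (hφz x).pow_right _
  have hψ : ∀ (x : A4) (y : Multiplicative (ZMod 2)), ψ (x, y) = φ x * twoHom z hz2 y :=
    fun x y => rfl
  -- multiplication by `z` preserves the number of fixed points outside the identity
  have hshift : ∀ x : A4, x ≠ 1 → fixIn S (φ x * z) = fixIn S (φ x) := by
    intro x hx
    have hcj : ∀ i, MulAut.conj (u i) (φ x) = φ x * z → fixIn S (φ x * z) = fixIn S (φ x) := by
      intro i h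
      rw [← h]
      exact fixIn_conj S _ _ (hiff _ (huU i))
    have hpow : ∀ i j (y : Multiplicative (ZMod 2)), MulAut.conj (u i) (twoHom (e j) (he j) y) =
        twoHom (e j) (he j) y * if i = j then twoHom z hz2 y else 1 := by
      intro i j y
      rcases two_cases y with rfl | rfl
      · simp
      · rw [twoHom_gen, twoHom_gen]
        exact hue i j
    have hcz : ∀ i (y : Multiplicative (ZMod 2)), Commute z (twoHom (e i) (he i) y) :=
      fun i y => (hze i).symm.pow_right _
    obtain ⟨⟨⟨a, b⟩, c⟩, d⟩ := x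
    rcases two_cases a with rfl | rfl
    swap
    · refine hcj 0 ?_
      rw [hφ]
      simp only [map_mul, hpow]
      simp only [if_true, twoHom_gen, Fin.reduceEq, if_false, mul_one]
      rw [mul_assoc (e 0) z, (hcz 1 b).eq, ← mul_assoc, mul_assoc (e 0 * _) z, (hcz 2 c).eq,
        ← mul_assoc, mul_assoc (e 0 * _ * _) z, (hcz 3 d).eq, ← mul_assoc]
    rcases two_cases b with rfl | rfl
    swap
    · refine hcj 1 ?_
      rw [hφ]
      simp only [map_mul, hpow]
      simp only [if_true, twoHom_gen, map_one, Fin.reduceEq, if_false, mul_one, one_mul]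
      rw [mul_assoc (e 1) z, (hcz 2 c).eq, ← mul_assoc, mul_assoc (e 1 * _) z, (hcz 3 d).eq,
        ← mul_assoc]
    rcases two_cases c with rfl | rfl
    swap
    · refine hcj 2 ?_
      rw [hφ]
      simp only [map_mul, hpow]
      simp only [if_true, twoHom_gen, map_one, Fin.reduceEq, if_false, mul_one, one_mul]
      rw [mul_assoc (e 2) z, (hcz 3 d).eq, ← mul_assoc]
    rcases two_cases d with rfl | rfl
    · exact absurd rfl hx
    · refine hcj 3 ?_
      rw [hφ]
      simp only [map_mul, hpow]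
      simp only [if_true, twoHom_gen, map_one, Fin.reduceEq, if_false, mul_one, one_mul]
  have h1 : Fintype.card A4 ∣ ∑ x : A4, fixIn S (φ x) :=
    sum_fixIn φ S fun x a => hS _ (hφU x) a
  have h2 : Fintype.card (A4 × Multiplicative (ZMod 2)) ∣
      ∑ x : A4 × Multiplicative (ZMod 2), fixIn S (ψ x) :=
    sum_fixIn ψ S fun x a => hS _ (mul_mem (hφU x.1) (pow_mem hzU _)) a
  have hsum : ∑ x : A4 × Multiplicative (ZMod 2), fixIn S (ψ x) =
      ∑ x : A4, (fixIn S (φ x) + fixIn S (φ x * z)) := by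
    rw [Fintype.sum_prod_type]
    refine Finset.sum_congr rfl fun x _ => ?_
    have e2 : (Finset.univ : Finset (Multiplicative (ZMod 2))) =
        {1, Multiplicative.ofAdd (1 : ZMod 2)} := by decide
    rw [e2, Finset.sum_pair (by decide), hψ, hψ, map_one, mul_one, twoHom_gen]
  have hone : fixIn S (φ 1 * z) = 0 ∧ fixIn S (φ 1) = Nat.card ↥S := by
    rw [map_one, one_mul]
    constructor
    · rw [fixIn, Nat.card_eq_zero]
      exact Or.inl ⟨fun a => hmoved a.1 a.2.1 a.2.2⟩
    · exact Nat.card_congr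
        { toFun := fun a => ⟨a.1, a.2.1⟩
          invFun := fun a => ⟨a.1, a.2, one_smul _ _⟩
          left_inv := fun a => rfl
          right_inv := fun a => rfl }
  rw [← Finset.add_sum_erase _ _ (Finset.mem_univ (1 : A4)), hone.2] at h1
  rw [hsum, Finset.sum_add_distrib, ← Finset.add_sum_erase _ _ (Finset.mem_univ (1 : A4)),
    ← Finset.add_sum_erase _ (fun x => fixIn S (φ x * z)) (Finset.mem_univ (1 : A4)), hone.1,
    hone.2, Finset.sum_congr rfl fun x hx => hshift x (Finset.ne_of_mem_erase hx)] at h2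
  have c1 : Fintype.card A4 = 16 := by simp
  have c2 : Fintype.card (A4 × Multiplicative (ZMod 2)) = 32 := by simp
  rw [c1] at h1
  rw [c2] at h2
  omega

/-- Invariant sets in a two-transitive action form designs. -/
theorem mul_dvd_of_invariant {N Ω : Type*} [Group N] [Finite N] [Fintype Ω] [MulAction N Ω]
    (h2 : MulAction.IsMultiplyPretransitive N Ω 2) {U : Subgroup N} (Δ : Finset Ω) [DecidableEq Ω]
    (hΔ : ∀ g ∈ U, g • Δ = Δ) :
    ∃ b : ℕ, b ∣ U.index ∧
      Fintype.card Ω * (Fintype.card Ω - 1) ∣ b * (Δ.card * (Δ.card - 1)) := by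
  classical
  set O := (MulAction.orbit N Δ).toFinset with hO
  refine ⟨O.card, ?_, ?_⟩
  · rw [hO, Set.toFinset_card, ← Nat.card_eq_fintype_card,
      ← Nat.card_congr (MulAction.orbitEquivQuotientStabilizer N Δ).symm]
    exact Subgroup.index_dvd_of_le fun g hg => hΔ g hg
  set pairs := (Finset.univ : Finset Ω).offDiag with hp
  let cnt : Ω × Ω → ℕ := fun p => (O.filter fun Δ' => p.1 ∈ Δ' ∧ p.2 ∈ Δ').card
  have hconst : ∀ p ∈ pairs, ∀ q ∈ pairs, cnt p = cnt q := by
    rintro ⟨a, b⟩ hab ⟨c, d⟩ hcd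
    simp only [hp, Finset.mem_offDiag, Finset.mem_univ, true_and] at hab hcd
    obtain ⟨g, rfl, rfl⟩ := (MulAction.is_two_pretransitive_iff.1 h2) hab hcd
    refine Finset.card_bij (fun Δ' _ => g • Δ') (fun Δ' h => ?_)
      (fun _ _ _ _ h => smul_left_cancel g h) fun Δ' h => ⟨g⁻¹ • Δ', ?_, smul_inv_smul g Δ'⟩
    · simp only [hO, Finset.mem_filter, Set.mem_toFinset] at h ⊢
      exact ⟨(smul_mem_orbit _).2 h.1, Finset.smul_mem_smul_finset h.2.1,
        Finset.smul_mem_smul_finset h.2.2⟩
    · simp only [hO, Finset.mem_filter, Set.mem_toFinset] at h ⊢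
      exact ⟨(smul_mem_orbit _).2 h.1,
        Finset.mem_inv_smul_finset_iff.2 h.2.1, Finset.mem_inv_smul_finset_iff.2 h.2.2⟩
  have hsum : ∑ p ∈ pairs, cnt p = O.card * (Δ.card * (Δ.card - 1)) := by
    simp only [cnt, Finset.card_filter]
    rw [Finset.sum_comm]
    rw [Finset.card_eq_sum_ones, Finset.sum_mul]
    refine Finset.sum_congr rfl fun Δ' hΔ' => ?_
    obtain ⟨g, rfl⟩ := Set.mem_toFinset.1 hΔ'
    rw [one_mul, ← Finset.card_filter, ← Finset.card_smul_finset g Δ, Nat.mul_sub, mul_one,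
      ← Finset.offDiag_card]
    refine congrArg Finset.card ?_
    ext ⟨a, b⟩
    simp [hp]
    tauto
  rcases pairs.eq_empty_or_nonempty with h0 | ⟨p₀, hp₀⟩
  · rw [h0, Finset.sum_empty] at hsum
    rw [← hsum]
    exact dvd_zero _
  · rw [← hsum, Finset.sum_congr rfl fun p h => hconst p h p₀ hp₀, Finset.sum_const, smul_eq_mul,
      hp, Finset.offDiag_card, Finset.card_univ, Nat.mul_sub, mul_one]
    exact dvd_mul_right _ _

theorem degree_cases {n : ℕ} (h32 : 32 ≤ n) (hdvd : n * (n - 1) ∣ 35942400) :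
    n = 40 ∨ n = 65 := by
  have hlt : n < 6100 := by
    by_contra h
    have h1 := Nat.mul_le_mul (not_lt.1 h) (show 6099 ≤ n - 1 by omega)
    have h2 := Nat.le_of_dvd (by norm_num) hdvd
    omega
  have key : (List.range 6100).all (fun n => Nat.blt n 32 || !(35942400 % (n * (n - 1)) == 0) ||
      n == 40 || n == 65) = true := by
    decide +kernel
  have := List.all_eq_true.1 key n (List.mem_range.2 hlt)
  rw [Nat.dvd_iff_mod_eq_zero] at hdvd
  simp [Nat.blt_eq, show ¬ n < 32 by omega, hdvd] at this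
  exact this

variable {N Ω : Type*} [Group N] [Finite N] [Fintype Ω] [MulAction N Ω]

/-- The main statement. -/
theorem not_two_transitive [FaithfulSMul N Ω] (hN : Nat.card N ∣ 35942400) {U P Q : Subgroup N}
    (hU : IsPGroup 2 ↥U) (hodd : ¬ 2 ∣ U.index) (hUP : U ≤ P) (hUQ : U ≤ Q)
    (hP : U.relIndex P ≤ 5) (hQ : U.relIndex Q ≤ 5) (hQ3 : Nat.card ↥Q ∣ 3 * 2 ^ 13)
    (hPQ : P ⊔ Q = ⊤) {z : N} {e u : Fin 4 → N} (hz1 : z ≠ 1) (hz2 : z * z = 1) (hzU : z ∈ U)
    (hzP : ∀ g ∈ P, Commute g z) (he : ∀ i, e i * e i = 1) (hc : ∀ i j, Commute (e i) (e j))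
    (heU : ∀ i, e i ∈ U) (huU : ∀ i, u i ∈ U)
    (hue : ∀ i j, u i * e j * (u i)⁻¹ = e j * if i = j then z else 1)
    (h3 : 3 ≤ Fintype.card Ω) : ¬ MulAction.IsMultiplyPretransitive N Ω 2 := by
  classical
  intro h2
  haveI := h2
  haveI : MulAction.IsPretransitive N Ω := MulAction.isPretransitive_of_is_two_pretransitive
  set n := Fintype.card Ω with hn
  have hdvd : n * (n - 1) ∣ 35942400 := by
    haveI : Nonempty (Fin 2 ↪ Ω) :=
      Function.Embedding.nonempty_of_card_le (by rw [Fintype.card_fin]; omega)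
    obtain ⟨x⟩ := ‹Nonempty (Fin 2 ↪ Ω)›
    haveI : MulAction.IsPretransitive N (Fin 2 ↪ Ω) := h2
    have h := (MulAction.stabilizer N x).index_dvd_card
    rw [MulAction.index_stabilizer_of_transitive, Nat.card_eq_fintype_card,
      Fintype.card_embedding_eq, Fintype.card_fin] at h
    refine (Eq.mp ?_ h : n * (n - 1) ∣ Nat.card N).trans hN
    rw [← hn]
    simp [Nat.descFactorial_succ, mul_comm]
  have hze : ∀ i, Commute (e i) z := fun i => hzP _ (hUP (heU i))
  set M : Set Ω := {a | z • a ≠ a} with hM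
  have hMP : ∀ g ∈ P, ∀ a ∈ M, g • a ∈ M := fun g hg a ha h => ha (by
    rw [← mul_smul, ← (hzP g hg).eq, mul_smul] at h
    exact smul_left_cancel g h)
  have hMU : ∀ g ∈ U, ∀ a ∈ M, g • a ∈ M := fun g hg => hMP g (hUP hg)
  have key : ∀ S : Set Ω, (∀ g ∈ U, ∀ a ∈ S, g • a ∈ S) → (∀ a ∈ S, z • a ≠ a) →
      32 ∣ Nat.card ↥S :=
    dvd_card_moved hz2 hzU he hc hze heU huU hue
  have hM32 := key M hMU fun a ha => ha
  have hMne : M.Nonempty := by
    by_contra h
    refine hz1 (FaithfulSMul.eq_of_smul_eq_smul (α := Ω) fun a => ?_)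
    rw [one_smul]
    by_contra h'
    exact h ⟨a, h'⟩
  have hMpos : 0 < Nat.card ↥M := by
    haveI := hMne.to_subtype
    exact Nat.card_pos
  have hMle : Nat.card ↥M ≤ n := by
    rw [hn, ← Nat.card_eq_fintype_card]
    exact Nat.card_le_card_of_injective _ Subtype.val_injective
  have h32 : 32 ≤ n := (Nat.le_of_dvd hMpos hM32).trans hMle
  rcases degree_cases h32 hdvd with h40 | h65
  · -- degree 40
    have hMcard : Nat.card ↥M = 32 := by omega
    obtain ⟨a, ha⟩ := hMne
    have horb : MulAction.orbit ↥U a = M := by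
      have hsub : MulAction.orbit ↥U a ⊆ M := by
        rintro _ ⟨g, rfl⟩
        exact hMU g g.2 a ha
      refine Set.eq_of_subset_of_ncard_le hsub ?_ M.toFinite
      have h := key (MulAction.orbit ↥U a)
        (fun g hg b hb => (smul_mem_orbit (⟨g, hg⟩ : ↥U)).2 hb)
        fun b hb => hsub hb
      haveI : Nonempty ↥(MulAction.orbit ↥U a) := ⟨⟨a, MulAction.mem_orbit_self a⟩⟩
      have := Nat.le_of_dvd Nat.card_pos h
      rw [← Nat.card_coe_set_eq, ← Nat.card_coe_set_eq, hMcard]
      exact this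
    have hOQ : MulAction.orbit ↥Q a = M := by
      have hsub : M ⊆ MulAction.orbit ↥Q a := by
        rw [← horb]
        rintro _ ⟨g, rfl⟩
        exact ⟨⟨g, hUQ g.2⟩, rfl⟩
      have h1 : Nat.card ↥(MulAction.orbit ↥Q a) ∣ 3 * 2 ^ 13 := by
        rw [← Nat.card_congr (MulAction.orbitEquivQuotientStabilizer ↥Q a).symm]
        exact (Subgroup.card_quotient_dvd_card _).trans hQ3
      have h2' : 32 ≤ Nat.card ↥(MulAction.orbit ↥Q a) :=
        hMcard ▸ Nat.card_mono (Set.toFinite _) hsub
      have h3' : Nat.card ↥(MulAction.orbit ↥Q a) ≤ 40 := by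
        rw [← h40, hn, ← Nat.card_eq_fintype_card]
        exact Nat.card_le_card_of_injective _ Subtype.val_injective
      have h4 : Nat.card ↥(MulAction.orbit ↥Q a) = 32 := by
        generalize Nat.card ↥(MulAction.orbit ↥Q a) = k at h1 h2' h3'
        interval_cases k <;> first | rfl | (norm_num at h1)
      exact (Set.eq_of_subset_of_ncard_le hsub
        (by rw [← Nat.card_coe_set_eq, ← Nat.card_coe_set_eq, h4, hMcard]) (Set.toFinite _)).symm
    have htop : ∀ g : N, g • a ∈ M := by
      have hle : P ⊔ Q ≤ MulAction.stabilizer N M := by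
        refine sup_le (fun g hg => ?_) fun g hg => ?_
        · refine Set.ext fun b => ⟨?_, fun hb => ?_⟩
          · rintro ⟨c, hc', rfl⟩
            exact hMP g hg c hc'
          · exact ⟨g⁻¹ • b, hMP _ (inv_mem hg) b hb, smul_inv_smul g b⟩
        · rw [← hOQ]
          exact MulAction.smul_orbit (⟨g, hg⟩ : ↥Q) a
      intro g
      have hg : g • M = M := hle (hPQ ▸ Subgroup.mem_top g)
      rw [← hg]
      exact Set.smul_mem_smul_set ha
    have huniv : M = Set.univ := Set.eq_univ_of_forall fun b => by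
      obtain ⟨g, rfl⟩ := MulAction.exists_smul_eq N a b
      exact htop g
    rw [huniv, Nat.card_univ, Nat.card_eq_fintype_card, ← hn] at hMcard
    omega
  · -- degree 65
    haveI : Fact (Nat.Prime 2) := ⟨Nat.prime_two⟩
    obtain ⟨a, ha⟩ := hU.nonempty_fixed_point_of_prime_not_dvd_card (α := Ω)
      (by rw [Nat.card_eq_fintype_card, ← hn, h65]; norm_num)
    have hfix : ∀ R : Subgroup N, U ≤ R → U.relIndex R ≤ 5 → R ≤ MulAction.stabilizer N a := by
      intro R hUR hR5
      set O := (MulAction.orbit ↥R a).toFinset with hO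
      have haO : a ∈ O := by simp [hO]
      have hcard : O.card ∣ U.relIndex R := by
        rw [hO, Set.toFinset_card, ← Nat.card_eq_fintype_card,
          ← Nat.card_congr (MulAction.orbitEquivQuotientStabilizer ↥R a).symm]
        exact Subgroup.index_dvd_of_le fun g hg =>
          (ha ⟨(g : N), hg⟩ : (g : N) • a = a)
      have hrelodd : ¬ 2 ∣ U.relIndex R := fun h =>
        hodd (h.trans (Subgroup.relIndex_mul_index hUR ▸ dvd_mul_right _ _))
      have hOodd : ¬ 2 ∣ O.card := fun h => hrelodd (h.trans hcard)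
      have hO5 : O.card ≤ 5 :=
        (Nat.le_of_dvd (Nat.pos_of_ne_zero fun h => hrelodd (by rw [h]; exact dvd_zero 2)) hcard).trans hR5
      have hinv : ∀ g ∈ U, g • O.erase a = O.erase a := by
        intro g hg
        ext b
        have ha' : g • a = a := ha ⟨g, hg⟩
        rw [← Finset.inv_smul_mem_iff, Finset.mem_erase, Finset.mem_erase, Ne, inv_smul_eq_iff, ha',
          hO, Set.mem_toFinset, Set.mem_toFinset]
        refine and_congr_right fun _ => ?_
        exact smul_mem_orbit (⟨g⁻¹, inv_mem (hUR hg)⟩ : ↥R)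
      obtain ⟨b, hb, hd⟩ := mul_dvd_of_invariant h2 (O.erase a) hinv
      rw [← hn, h65, Finset.card_erase_of_mem haO] at hd
      have hbodd : Nat.Coprime 64 b := by
        rw [show (64 : ℕ) = 2 ^ 6 by norm_num]
        exact Nat.Coprime.pow_left _ (Nat.prime_two.coprime_iff_not_dvd.2 fun h => hodd (h.trans hb))
      have h64 := hbodd.dvd_of_dvd_mul_left ((show 64 ∣ 65 * (65 - 1) by norm_num).trans hd)
      have hO1 : O.card = 1 := by
        have : 0 < O.card := Finset.card_pos.2 ⟨a, haO⟩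
        generalize O.card = k at hOodd hO5 h64 this
        interval_cases k <;> simp_all
      intro g hg
      have : g • a ∈ O := by
        rw [hO, Set.mem_toFinset]
        exact ⟨⟨g, hg⟩, rfl⟩
      obtain ⟨b', hb'⟩ := Finset.card_eq_one.1 hO1
      rw [hb', Finset.mem_singleton] at this haO
      show g • a = a
      rw [this, ← haO]
    have hall : ∀ g : N, g • a = a := fun g =>
      (sup_le (hfix P hUP hP) (hfix Q hUQ hQ) : P ⊔ Q ≤ _) (hPQ ▸ Subgroup.mem_top g)
    obtain ⟨b, hb⟩ := Fintype.exists_ne_of_one_lt_card (by omega : 1 < Fintype.card Ω) a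
    obtain ⟨g, hg⟩ := MulAction.exists_smul_eq N a b
    exact hb (hg ▸ hall g)

end CfsgLib.TitsTwoTrans
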